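import Mathlib
import Groth.Agent.Lib.Helper84.Rosenlicht.Units
import Groth.Agent.Lib.Helper84.UnipPts
import Groth.Agent.Lib.Helper59.Shear
import Groth.Agent.H40.PtAct
import Groth.Prelude.Def_GLin

/-!
# Semi-invariants of character-free connected groups are invariants (helper84)

`A` a finitely generated Hopf domain over an algebraically closed field `k` whose only group-like
element is `1`, `R` a `k`-domain with a multiplicative coaction `ρ` of `A`.  If `ρ x = (x ⊗ 1) w`
then `ρ x = x ⊗ 1`.
-/

set_option autoImplicit false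
set_option linter.unusedSectionVars false
universe u v w
open TensorProduct

namespace Groth.Agent.Lib.Helper84.Rosenlicht

open Groth.Agent.Lib.Helper59.LinRed

section Pts

variable {k : Type u} [Field k] [IsAlgClosed k] {A : Type v} [CommRing A] [Algebra k A]
  [Algebra.FiniteType k A] [IsReduced A] {V : Type w} [AddCommGroup V] [Module k V]

/-- a tensor in `V ⊗ A` killed by all points of `A` is zero. -/
theorem eq_zero_of_forall_pt (t : V ⊗[k] A)
    (h : ∀ g : A →ₐ[k] k, g.toLinearMap.lTensor V t = 0) : t = 0 := by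
  apply Groth.Agent.Lib.Helper41.eq_zero_of_forall_lTensor_eq_zero
    (fun y : A →ₐ[k] k => y.toLinearMap)
  · intro b hb
    exact (Groth.Agent.Lib.Helper59.LinRed.isNilpotent_of_forall_algHom_eq_zero k A b hb).eq_zero
  · exact h

end Pts

section Core

variable {k : Type u} [Field k] [IsAlgClosed k] {A : Type v} [CommRing A] [HopfAlgebra k A]
  [Algebra.FiniteType k A] [IsDomain A]
  {R : Type v} [CommRing R] [Algebra k R] [IsDomain R] [HopfRep.Comod k A R]
  [GLin.IsCoactAlg k A R]

omit [IsAlgClosed k] [HopfAlgebra k A] [Algebra.FiniteType k A] [IsDomain A] [IsDomain R]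
  [HopfRep.Comod k A R] [GLin.IsCoactAlg k A R] in
theorem tmul_left_injective (x : R) (hx : x ≠ 0) {M : Type*} [AddCommGroup M] [Module k M] :
    Function.Injective (fun m : M => x ⊗ₜ[k] m) := by
  intro m m' h
  obtain ⟨lam, hlam⟩ := Module.Projective.exists_dual_eq_one k hx
  have h2 := congrArg (fun t => TensorProduct.lid k M (LinearMap.rTensor M lam t)) h
  simpa [hlam] using h2

/-- the involution `r ⊗ a ↦ ρ(r) (1 ⊗ S a)` of `R ⊗ A`. -/
noncomputable def tau : R ⊗[k] A →ₐ[k] R ⊗[k] A :=
  (shear (GLin.IsCoactAlg.coact_mul (k := k) (A := A) (R := R))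
    (GLin.IsCoactAlg.coact_one (k := k) (A := A) (R := R))).comp
    (Algebra.TensorProduct.map (AlgHom.id k R) (HopfAlgebra.antipodeAlgHom k A))

omit [IsAlgClosed k] [Algebra.FiniteType k A] [IsDomain A] [IsDomain R] in
theorem tau_coact (y : R) :
    tau (k := k) (A := A) (R := R) (HopfRep.Comod.coact (k := k) (A := A) y) = y ⊗ₜ[k] (1 : A) := by
  show shear _ _ (Algebra.TensorProduct.map (AlgHom.id k R) (HopfAlgebra.antipodeAlgHom k A)
    (HopfRep.Comod.coact (k := k) (A := A) y)) = _
  rw [map_id_antipode_apply, shear_map_antipode_apply, mulS_rTensor_coact]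

omit [IsAlgClosed k] [Algebra.FiniteType k A] [IsDomain A] [IsDomain R] in
theorem tau_tmul_one (y : R) :
    tau (k := k) (A := A) (R := R) (y ⊗ₜ[k] (1 : A)) = HopfRep.Comod.coact (k := k) (A := A) y := by
  show shear _ _ (Algebra.TensorProduct.map (AlgHom.id k R) (HopfAlgebra.antipodeAlgHom k A)
    (y ⊗ₜ[k] (1 : A))) = _
  rw [Algebra.TensorProduct.map_tmul, map_one]
  show coactAlg (GLin.IsCoactAlg.coact_mul (k := k) (A := A) (R := R))
    (GLin.IsCoactAlg.coact_one (k := k) (A := A) (R := R)) y * ((1 : R) ⊗ₜ[k] (1 : A)) = _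
  rw [← Algebra.TensorProduct.one_def, mul_one]
  rfl

/-- **semi-invariants are invariants** when `A` has no non-trivial group-like elements. -/
theorem coact_eq_tmul_one_of_semiinvariant (hchar : ∀ a : A, IsGroupLikeElem k a → a = 1)
    (x : R) (hx : x ≠ 0) (w : R ⊗[k] A)
    (hw : HopfRep.Comod.coact (k := k) (A := A) x = (x ⊗ₜ[k] (1 : A)) * w) :
    HopfRep.Comod.coact (k := k) (A := A) x = x ⊗ₜ[k] (1 : A) := by
  -- `w` is a unit
  have h1 : (x ⊗ₜ[k] (1 : A)) * (w * tau w - 1) = 0 := by
    have := congrArg (tau (k := k) (A := A) (R := R)) hw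
    rw [map_mul, tau_coact, tau_tmul_one, hw] at this
    rw [mul_sub, mul_one, ← mul_assoc, ← this, sub_self]
  have hunit : w * tau w = 1 := by
    have := eq_zero_of_tmul_one_mul_eq_zero hx h1
    exact sub_eq_zero.1 this
  -- Rosenlicht
  obtain ⟨b, hb⟩ := exists_tmul_of_mul_eq_one w (tau w) hunit (Bialgebra.counitAlgHom k A)
  -- the slice of `ρ x` at the counit is `x`
  have hsl : sl R (Bialgebra.counitAlgHom k A) (HopfRep.Comod.coact (k := k) (A := A) x) = x := by
    rw [sl_eq_rid]
    have hcu := LinearMap.congr_fun (HopfRep.Comod.counit_comp (k := k) (A := A) (V := R)) x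
    simp only [LinearMap.comp_apply, LinearMap.flip_apply, TensorProduct.mk_apply] at hcu
    have : (Bialgebra.counitAlgHom k A).toLinearMap = Coalgebra.counit (R := k) (A := A) := rfl
    rw [this, hcu]
    simp
  have hr0 : sl R (Bialgebra.counitAlgHom k A) w = 1 := by
    have h2 := hsl
    rw [hw, map_mul, sl_tmul] at h2
    simp only [map_one, mul_one] at h2
    have h3 : x * (sl R (Bialgebra.counitAlgHom k A) w - 1) = 0 := by
      rw [mul_sub, h2, mul_one, sub_self]
    rcases mul_eq_zero.1 h3 with h | h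
    · exact absurd h hx
    · exact sub_eq_zero.1 h
  rw [hr0] at hb
  have hρ : HopfRep.Comod.coact (k := k) (A := A) x = x ⊗ₜ[k] b := by
    rw [hw, hb, Algebra.TensorProduct.tmul_mul_tmul, mul_one, one_mul]
  -- `b` is group-like
  have hεb : Coalgebra.counit (R := k) b = 1 := by
    have hcu := LinearMap.congr_fun (HopfRep.Comod.counit_comp (k := k) (A := A) (V := R)) x
    simp only [LinearMap.comp_apply, LinearMap.flip_apply, TensorProduct.mk_apply] at hcu
    rw [hρ, LinearMap.lTensor_tmul] at hcu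
    exact tmul_left_injective x hx hcu
  have hΔb : Coalgebra.comul (R := k) b = b ⊗ₜ[k] b := by
    have hco := LinearMap.congr_fun (HopfRep.Comod.coassoc (k := k) (A := A) (V := R)) x
    simp only [LinearMap.comp_apply, LinearEquiv.coe_coe] at hco
    rw [hρ, LinearMap.rTensor_tmul, hρ, TensorProduct.assoc_tmul, LinearMap.lTensor_tmul] at hco
    exact (tmul_left_injective x hx hco).symm
  have hb1 : b = 1 := hchar b ⟨hεb, hΔb⟩
  rw [hρ, hb1]

end Core

section Pointwise

variable {k : Type u} [Field k] [IsAlgClosed k] {A : Type v} [CommRing A] [HopfAlgebra k A]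
  [Algebra.FiniteType k A] [IsDomain A]
  {R : Type v} [CommRing R] [Algebra k R] [HopfRep.Comod k A R]
  [GLin.IsCoactAlg k A R]

omit [IsAlgClosed k] [Algebra.FiniteType k A] [IsDomain A] in
theorem act_mul' (φ : A →ₐ[k] k) (x y : R) :
    HopfRep.Comod.act k A R φ (x * y) =
      HopfRep.Comod.act k A R φ x * HopfRep.Comod.act k A R φ y := by
  show (Algebra.TensorProduct.rid k k R) ((Algebra.TensorProduct.map (AlgHom.id k R) φ)
      (HopfRep.Comod.coact (k := k) (A := A) (x * y))) =
    (Algebra.TensorProduct.rid k k R) ((Algebra.TensorProduct.map (AlgHom.id k R) φ)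
      (HopfRep.Comod.coact (k := k) (A := A) x)) *
    (Algebra.TensorProduct.rid k k R) ((Algebra.TensorProduct.map (AlgHom.id k R) φ)
      (HopfRep.Comod.coact (k := k) (A := A) y))
  rw [GLin.IsCoactAlg.coact_mul, map_mul, map_mul]

omit [IsAlgClosed k] [Algebra.FiniteType k A] [IsDomain A] [GLin.IsCoactAlg k A R] in
theorem act_injective (φ : A →ₐ[k] k) : Function.Injective (HopfRep.Comod.act k A R φ) := by
  intro x y h
  have := congrArg (HopfRep.Comod.act k A R (WithConv.toConv φ :
    Groth.Agent.Lib.Helper84.Points.Pt k A k)⁻¹.ofConv) h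
  have e := Groth.Agent.H40.PtAct.act_inv_act (k := k) (A := A) (V := R)
    (WithConv.toConv φ : Groth.Agent.Lib.Helper84.Points.Pt k A k)
  rwa [WithConv.ofConv_toConv, e, e] at this

/-- pointwise semi-invariance gives semi-invariance of the coaction. -/
theorem exists_coact_eq_mul (x : R)
    (h : ∀ φ : A →ₐ[k] k, x ∣ HopfRep.Comod.act k A R φ x) :
    ∃ w : R ⊗[k] A, HopfRep.Comod.coact (k := k) (A := A) x = (x ⊗ₜ[k] (1 : A)) * w := by
  set I : Ideal R := Ideal.span {x} with hI
  let π : R →ₐ[k] R ⧸ I := Ideal.Quotient.mkₐ k I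
  have hπ : Function.Surjective π := Ideal.Quotient.mkₐ_surjective k I
  have h0 : (Algebra.TensorProduct.map π (AlgHom.id k A))
      (HopfRep.Comod.coact (k := k) (A := A) x) = 0 := by
    apply eq_zero_of_forall_pt
    intro g
    have hcomm : ∀ t : R ⊗[k] A, g.toLinearMap.lTensor (R ⧸ I)
        (Algebra.TensorProduct.map π (AlgHom.id k A) t) =
        π.toLinearMap.rTensor k (g.toLinearMap.lTensor R t) := by
      intro t
      induction t using TensorProduct.induction_on with
      | zero => simp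
      | tmul r a => simp
      | add s t hs ht => simp only [map_add, hs, ht]
    rw [hcomm]
    obtain ⟨c, hc⟩ := h g
    have h1 : g.toLinearMap.lTensor R (HopfRep.Comod.coact (k := k) (A := A) x) =
        (TensorProduct.rid k R).symm (HopfRep.Comod.act k A R g x) := by
      rw [LinearEquiv.eq_symm_apply]
      rfl
    rw [h1, hc]
    simp only [TensorProduct.rid_symm_apply, LinearMap.rTensor_tmul, AlgHom.toLinearMap_apply]
    have : π (x * c) = 0 := by
      show Ideal.Quotient.mk I (x * c) = 0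
      rw [Ideal.Quotient.eq_zero_iff_mem]
      exact Ideal.mul_mem_right _ _ (Ideal.subset_span rfl)
    rw [this, TensorProduct.zero_tmul]
  have hker := Algebra.TensorProduct.rTensor_ker (R := k) (C := A) π hπ
  have hmem : HopfRep.Comod.coact (k := k) (A := A) x ∈
      RingHom.ker (Algebra.TensorProduct.map π (AlgHom.id k A)) := h0
  rw [hker] at hmem
  have hkπ : RingHom.ker π = I := Ideal.Quotient.mkₐ_ker k I
  rw [hkπ, hI, Ideal.map_span, Set.image_singleton] at hmem
  obtain ⟨w, hw⟩ := Ideal.mem_span_singleton'.1 hmem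
  exact ⟨w, by rw [← hw, mul_comm]; rfl⟩

end Pointwise

section Final

variable {k : Type u} [Field k] [IsAlgClosed k] {A : Type u} [CommRing A] [HopfAlgebra k A]
  [Algebra.FiniteType k A] [IsDomain A]
  {B : Type u} [CommRing B] [Algebra k B] [IsDomain B] [UniqueFactorizationMonoid B]
  [HopfRep.Comod k A B] [GLin.IsCoactAlg k A B]

/-- invariant fractions are fractions of invariants (connected character-free case). -/
theorem exists_invariant_fraction (hchar : ∀ a : A, IsGroupLikeElem k a → a = 1)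
    (f g : B) (hg : g ≠ 0)
    (hinv : ∀ φ : A →ₐ[k] k,
      HopfRep.Comod.act k A B φ f * g = f * HopfRep.Comod.act k A B φ g) :
    ∃ f' g' : B, (∀ φ : A →ₐ[k] k, HopfRep.Comod.act k A B φ f' = f') ∧
      (∀ φ : A →ₐ[k] k, HopfRep.Comod.act k A B φ g' = g') ∧ g' ≠ 0 ∧ f * g' = f' * g := by
  obtain ⟨g₁, f₁, c, hrel, hcg, hcf⟩ := UniqueFactorizationMonoid.exists_reduced_factors g hg f
  have hc : c ≠ 0 := by
    rintro rfl
    rw [zero_mul] at hcg
    exact hg hcg.symm
  have hg₁ : g₁ ≠ 0 := by
    rintro rfl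
    rw [mul_zero] at hcg
    exact hg hcg.symm
  -- reduced relation
  have hred : ∀ φ : A →ₐ[k] k,
      HopfRep.Comod.act k A B φ f₁ * g₁ = f₁ * HopfRep.Comod.act k A B φ g₁ := by
    intro φ
    have h := hinv φ
    rw [← hcf, ← hcg, act_mul', act_mul'] at h
    have hσc : HopfRep.Comod.act k A B φ c ≠ 0 := by
      intro h0
      exact hc (act_injective φ (by rw [h0, map_zero]))
    have h2 : (HopfRep.Comod.act k A B φ c * c) * (HopfRep.Comod.act k A B φ f₁ * g₁) =
        (HopfRep.Comod.act k A B φ c * c) * (f₁ * HopfRep.Comod.act k A B φ g₁) := by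
      linear_combination h
    exact mul_left_cancel₀ (mul_ne_zero hσc hc) h2
  have hdvd : ∀ φ : A →ₐ[k] k, g₁ ∣ HopfRep.Comod.act k A B φ g₁ := by
    intro φ
    have h1 : g₁ ∣ f₁ * HopfRep.Comod.act k A B φ g₁ := ⟨HopfRep.Comod.act k A B φ f₁, by
      rw [← hred φ, mul_comm]⟩
    exact hrel.dvd_of_dvd_mul_left h1
  obtain ⟨w, hw⟩ := exists_coact_eq_mul g₁ hdvd
  have hfix : g₁ ∈ HopfRep.fixedPts k A B :=
    coact_eq_tmul_one_of_semiinvariant hchar g₁ hg₁ w hw
  have hg₁fix : ∀ φ : A →ₐ[k] k, HopfRep.Comod.act k A B φ g₁ = g₁ := fun φ =>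
    Groth.Agent.Lib.Helper84.UnipPts.act_of_mem_fixedPts φ hfix
  refine ⟨f₁, g₁, ?_, hg₁fix, hg₁, ?_⟩
  · intro φ
    have h := hred φ
    rw [hg₁fix φ] at h
    exact mul_right_cancel₀ hg₁ h
  · rw [← hcf, ← hcg]
    ring

end Final

end Groth.Agent.Lib.Helper84.Rosenlicht
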