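import Mathlib
import Groth.Agent.Lib.Helper84.Rosenlicht.SemiInv
import Groth.Agent.Lib.Helper50.RegularSubfield

/-!
# The field of invariant rational functions (helper84)

`A` a Hopf algebra over a field `k` coacting on a domain `B`; `K = Frac B`.  The rational points of
`A` act on `K`; the invariant subfield is finitely generated when `B` is of finite type.  For a
factorial `B` with scalar units, reduced invariant fractions consist of semi-invariants.
-/

set_option autoImplicit false
set_option linter.unusedSectionVars false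
universe u
open TensorProduct

namespace Groth.Agent.Lib.Helper84.Rosenlicht

section InvField

variable {k : Type u} [Field k] {A : Type u} [CommRing A] [HopfAlgebra k A]
  {B : Type u} [CommRing B] [Algebra k B] [IsDomain B]
  [HopfRep.Comod k A B] [GLin.IsCoactAlg k A B]

/-- the action of a rational point as an algebra endomorphism. -/
noncomputable def actAlg (φ : A →ₐ[k] k) : B →ₐ[k] B :=
  (Algebra.TensorProduct.rid k k B).toAlgHom.comp
    ((Algebra.TensorProduct.map (AlgHom.id k B) φ).comp (GLin.coactAlgHom k A B))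

theorem actAlg_apply (φ : A →ₐ[k] k) (x : B) : actAlg φ x = HopfRep.Comod.act k A B φ x := rfl

theorem actAlg_injective (φ : A →ₐ[k] k) : Function.Injective (actAlg (B := B) φ) :=
  act_injective φ

/-- the inverse point. -/
noncomputable def invPt (φ : A →ₐ[k] k) : A →ₐ[k] k :=
  (WithConv.toConv φ : Groth.Agent.Lib.Helper84.Points.Pt k A k)⁻¹.ofConv

theorem act_invPt_act (φ : A →ₐ[k] k) (x : B) :
    HopfRep.Comod.act k A B (invPt φ) (HopfRep.Comod.act k A B φ x) = x := by
  have e := Groth.Agent.H40.PtAct.act_inv_act (k := k) (A := A) (V := B)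
    (WithConv.toConv φ : Groth.Agent.Lib.Helper84.Points.Pt k A k) x
  rwa [WithConv.ofConv_toConv] at e

theorem act_act_invPt (φ : A →ₐ[k] k) (x : B) :
    HopfRep.Comod.act k A B φ (HopfRep.Comod.act k A B (invPt φ) x) = x := by
  have e := Groth.Agent.H40.PtAct.act_act_inv (k := k) (A := A) (V := B)
    (WithConv.toConv φ : Groth.Agent.Lib.Helper84.Points.Pt k A k) x
  rwa [WithConv.ofConv_toConv] at e

/-- the action of a rational point on the fraction field. -/
noncomputable def actK (φ : A →ₐ[k] k) : FractionRing B →ₐ[k] FractionRing B :=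
  IsFractionRing.liftAlgHom (K := FractionRing B)
    (g := (IsScalarTower.toAlgHom k B (FractionRing B)).comp (actAlg φ))
    ((IsFractionRing.injective B (FractionRing B)).comp (actAlg_injective φ))

theorem actK_algebraMap (φ : A →ₐ[k] k) (x : B) :
    actK φ (algebraMap B (FractionRing B) x) =
      algebraMap B (FractionRing B) (HopfRep.Comod.act k A B φ x) := by
  rw [actK, IsFractionRing.liftAlgHom_apply, IsFractionRing.lift_algebraMap]
  rfl

variable (k A B) in
/-- the field of invariant rational functions. -/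
noncomputable def invField : IntermediateField k (FractionRing B) where
  carrier := {z | ∀ φ : A →ₐ[k] k, actK φ z = z}
  mul_mem' := by
    intro a b ha hb φ
    rw [map_mul, ha φ, hb φ]
  add_mem' := by
    intro a b ha hb φ
    rw [map_add, ha φ, hb φ]
  algebraMap_mem' := by
    intro c φ
    exact AlgHom.commutes _ _
  inv_mem' := by
    intro x hx φ
    rw [map_inv₀, hx φ]

theorem mem_invField_iff (z : FractionRing B) :
    z ∈ invField k A B ↔ ∀ φ : A →ₐ[k] k, actK φ z = z := Iff.rfl

theorem div_mem_invField_iff (a b : B) (hb : b ≠ 0) :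
    algebraMap B (FractionRing B) a / algebraMap B (FractionRing B) b ∈ invField k A B ↔
      ∀ φ : A →ₐ[k] k,
        HopfRep.Comod.act k A B φ a * b = a * HopfRep.Comod.act k A B φ b := by
  have hinj := IsFractionRing.injective B (FractionRing B)
  have hb' : algebraMap B (FractionRing B) b ≠ 0 := by
    intro h
    exact hb (hinj (by rw [h, map_zero]))
  rw [mem_invField_iff]
  refine forall_congr' fun φ => ?_
  have hσb : algebraMap B (FractionRing B) (HopfRep.Comod.act k A B φ b) ≠ 0 := by
    intro h
    exact hb (act_injective φ (hinj (by rw [h, map_zero, map_zero])))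
  rw [map_div₀, actK_algebraMap, actK_algebraMap, div_eq_div_iff hσb hb', ← map_mul, ← map_mul]
  exact hinj.eq_iff

end InvField

section FG

variable {k : Type u} [Field k] {A : Type u} [CommRing A] [HopfAlgebra k A]
  {B : Type u} [CommRing B] [Algebra k B] [IsDomain B] [Algebra.FiniteType k B]
  [HopfRep.Comod k A B] [GLin.IsCoactAlg k A B]

/-- intermediate fields of the function field of a variety are finitely generated. -/
theorem fg_intermediateField (L : IntermediateField k (FractionRing B)) : L.FG := by
  haveI : Algebra.EssFiniteType B (FractionRing B) :=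
    Algebra.EssFiniteType.of_isLocalization (FractionRing B) (nonZeroDivisors B)
  haveI : Algebra.EssFiniteType k (FractionRing B) :=
    Algebra.EssFiniteType.comp k B (FractionRing B)
  obtain ⟨ι, x, hx⟩ := exists_isTranscendenceBasis' k L
  haveI : Finite ι := by
    have h1 : AlgebraicIndependent k (L.val ∘ x) :=
      hx.1.map' (f := L.val) L.val.injective
    exact finite_of_algebraicIndependent h1
  rw [← IntermediateField.essFiniteType_iff]
  exact Groth.Agent.Lib.Helper50.RegularSubfield.essFiniteType_intermediateField k (FractionRing B) L x hx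

end FG

section SemiInv

variable {k : Type u} [Field k] {A : Type u} [CommRing A] [HopfAlgebra k A]
  {B : Type u} [CommRing B] [Algebra k B] [IsDomain B] [UniqueFactorizationMonoid B]
  [HopfRep.Comod k A B] [GLin.IsCoactAlg k A B]

/-- an invariant rational function on a factorial variety with scalar units is a quotient of two
semi-invariants of the same weight. -/
theorem exists_semiinvariant_fraction (hunits : ∀ u : Bˣ, ∃ c : k, algebraMap k B c = u)
    (z : FractionRing B) (hz : z ∈ invField k A B) :
    ∃ a b : B, b ≠ 0 ∧ z = algebraMap B (FractionRing B) a / algebraMap B (FractionRing B) b ∧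
      ∀ φ : A →ₐ[k] k, ∃ c : k, HopfRep.Comod.act k A B φ a = c • a ∧
        HopfRep.Comod.act k A B φ b = c • b := by
  have hinj := IsFractionRing.injective B (FractionRing B)
  obtain ⟨a₀, b₀, hb₀, rfl⟩ := IsFractionRing.div_surjective (A := B) z
  have hb₀' : b₀ ≠ 0 := nonZeroDivisors.ne_zero hb₀
  obtain ⟨b, a, c, hrel, hcb, hca⟩ := UniqueFactorizationMonoid.exists_reduced_factors b₀ hb₀' a₀
  have hc : c ≠ 0 := by
    rintro rfl
    rw [zero_mul] at hcb
    exact hb₀' hcb.symm
  have hb : b ≠ 0 := by
    rintro rfl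
    rw [mul_zero] at hcb
    exact hb₀' hcb.symm
  have hcK : algebraMap B (FractionRing B) c ≠ 0 := fun h => hc (hinj (by rw [h, map_zero]))
  have hbK : algebraMap B (FractionRing B) b ≠ 0 := fun h => hb (hinj (by rw [h, map_zero]))
  have hzeq : algebraMap B (FractionRing B) a₀ / algebraMap B (FractionRing B) b₀ =
      algebraMap B (FractionRing B) a / algebraMap B (FractionRing B) b := by
    rw [← hca, ← hcb, map_mul, map_mul, mul_div_mul_left _ _ hcK]
  rw [hzeq] at hz
  have hred := (div_mem_invField_iff a b hb).1 hz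
  have hdvd : ∀ φ : A →ₐ[k] k, b ∣ HopfRep.Comod.act k A B φ b := by
    intro φ
    have h1 : b ∣ a * HopfRep.Comod.act k A B φ b := ⟨HopfRep.Comod.act k A B φ a, by
      rw [← hred φ, mul_comm]⟩
    exact hrel.dvd_of_dvd_mul_left h1
  refine ⟨a, b, hb, hzeq, fun φ => ?_⟩
  have h2 : HopfRep.Comod.act k A B φ b ∣ b := by
    have h3 := map_dvd (actAlg (B := B) φ) (hdvd (invPt φ))
    rwa [actAlg_apply, actAlg_apply, act_act_invPt] at h3
  obtain ⟨u, hu⟩ := associated_of_dvd_dvd (hdvd φ) h2
  obtain ⟨c', hc'⟩ := hunits u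
  have hσb : HopfRep.Comod.act k A B φ b = c' • b := by
    rw [← hu, ← hc', Algebra.smul_def, mul_comm]
  refine ⟨c', ?_, hσb⟩
  have h4 := hred φ
  rw [hσb, mul_smul_comm, ← smul_mul_assoc] at h4
  exact mul_right_cancel₀ hb h4

end SemiInv

section Main

variable {k : Type u} [Field k] {A : Type u} [CommRing A] [HopfAlgebra k A]
  {B : Type u} [CommRing B] [Algebra k B] [IsDomain B] [UniqueFactorizationMonoid B]
  [Algebra.FiniteType k B] [HopfRep.Comod k A B] [GLin.IsCoactAlg k A B]

/-- the invariant elements of `B[1/h]` inside the fraction field. -/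
noncomputable def invLoc (h : B) : Subalgebra k (FractionRing B) where
  carrier := {z | z ∈ invField k A B ∧ ∃ (c : B) (r : ℕ),
    z * algebraMap B (FractionRing B) h ^ r = algebraMap B (FractionRing B) c}
  mul_mem' := by
    rintro x y ⟨hx, c, r, hc⟩ ⟨hy, d, t, hd⟩
    refine ⟨mul_mem hx hy, c * d, r + t, ?_⟩
    rw [map_mul, ← hc, ← hd, pow_add]
    ring
  add_mem' := by
    rintro x y ⟨hx, c, r, hc⟩ ⟨hy, d, t, hd⟩
    refine ⟨add_mem hx hy, c * h ^ t + d * h ^ r, r + t, ?_⟩
    rw [map_add, map_mul, map_mul, ← hc, ← hd, pow_add, map_pow, map_pow]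
    ring
  algebraMap_mem' := by
    intro c
    refine ⟨(invField k A B).algebraMap_mem c, algebraMap k B c, 0, ?_⟩
    rw [pow_zero, mul_one, ← IsScalarTower.algebraMap_apply]

theorem exists_invariant_localization (hunits : ∀ u : Bˣ, ∃ c : k, algebraMap k B c = u) :
    ∃ h : B, h ≠ 0 ∧
      (∀ φ : A →ₐ[k] k, ∃ c : k, c ≠ 0 ∧ HopfRep.Comod.act k A B φ h = c • h) ∧
      ∀ a b : B, b ≠ 0 →
        (∀ φ : A →ₐ[k] k,
          HopfRep.Comod.act k A B φ a * b = a * HopfRep.Comod.act k A B φ b) →
        ∃ (c d : B) (r t : ℕ), d ≠ 0 ∧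
          (∀ φ : A →ₐ[k] k, HopfRep.Comod.act k A B φ c * h ^ r =
            c * (HopfRep.Comod.act k A B φ h) ^ r) ∧
          (∀ φ : A →ₐ[k] k, HopfRep.Comod.act k A B φ d * h ^ t =
            d * (HopfRep.Comod.act k A B φ h) ^ t) ∧
          a * d * h ^ r = b * c * h ^ t := by
  classical
  have hinj := IsFractionRing.injective B (FractionRing B)
  obtain ⟨T, hT⟩ := fg_intermediateField (invField k A B)
  have hTmem : ∀ q : T, (q : FractionRing B) ∈ invField k A B := fun q => by
    rw [← hT]
    exact IntermediateField.subset_adjoin k _ q.2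
  choose num den hden hq hsemi using fun q : T =>
    exists_semiinvariant_fraction hunits (q : FractionRing B) (hTmem q)
  set h : B := ∏ q ∈ T.attach, den q with hh
  have hh0 : h ≠ 0 := Finset.prod_ne_zero_iff.2 fun q _ => hden q
  have hhsemi : ∀ φ : A →ₐ[k] k, ∃ c : k, c ≠ 0 ∧ HopfRep.Comod.act k A B φ h = c • h := by
    intro φ
    choose cq hcq using fun q : T => hsemi q φ
    refine ⟨∏ q ∈ T.attach, cq q, ?_, ?_⟩
    · rw [Finset.prod_ne_zero_iff]
      intro q _ h0
      have := (hcq q).2
      rw [h0, zero_smul] at this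
      exact hden q (act_injective φ (by rw [this, map_zero]))
    · rw [← actAlg_apply, hh, map_prod, Algebra.smul_def, map_prod, ← Finset.prod_mul_distrib]
      refine Finset.prod_congr rfl fun q _ => ?_
      rw [actAlg_apply, (hcq q).2, Algebra.smul_def]
  refine ⟨h, hh0, hhsemi, ?_⟩
  -- the generators lie in `invLoc h`
  have hgen' : ∀ q : T, (q : FractionRing B) ∈ invLoc (k := k) (A := A) h := by
    intro q
    refine ⟨hTmem q, num q * ∏ q' ∈ T.attach.erase q, den q', 1, ?_⟩
    have h1 : den q * ∏ q' ∈ T.attach.erase q, den q' = h :=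
      Finset.mul_prod_erase _ _ (Finset.mem_attach _ _)
    have hdK : algebraMap B (FractionRing B) (den q) ≠ 0 := fun h0 =>
      hden q (hinj (by rw [h0, map_zero]))
    rw [pow_one, ← h1, map_mul, map_mul, hq q]
    field_simp
  have hgen : ∀ q ∈ T, q ∈ invLoc (k := k) (A := A) h := fun q hqT => hgen' ⟨q, hqT⟩
  have hadj : Algebra.adjoin k (T : Set (FractionRing B)) ≤ invLoc (k := k) (A := A) h :=
    Algebra.adjoin_le hgen
  -- extract data from membership in `invLoc`
  have hdata : ∀ P ∈ invLoc (k := k) (A := A) h, ∃ (c : B) (r : ℕ),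
      P * algebraMap B (FractionRing B) h ^ r = algebraMap B (FractionRing B) c ∧
      ∀ φ : A →ₐ[k] k, HopfRep.Comod.act k A B φ c * h ^ r =
        c * (HopfRep.Comod.act k A B φ h) ^ r := by
    rintro P ⟨hPinv, c, r, hc⟩
    refine ⟨c, r, hc, fun φ => ?_⟩
    apply hinj
    have h1 := congrArg (actK (B := B) φ) hc
    rw [map_mul, map_pow, actK_algebraMap, actK_algebraMap, hPinv φ] at h1
    rw [map_mul, map_mul, map_pow, map_pow, ← h1, ← hc]
    ring
  intro a b hb hab
  have hbK : algebraMap B (FractionRing B) b ≠ 0 := fun h0 => hb (hinj (by rw [h0, map_zero]))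
  have hhK : algebraMap B (FractionRing B) h ≠ 0 := fun h0 => hh0 (hinj (by rw [h0, map_zero]))
  have hz : algebraMap B (FractionRing B) a / algebraMap B (FractionRing B) b ∈
      invField k A B := (div_mem_invField_iff a b hb).2 hab
  rw [← hT, IntermediateField.mem_adjoin_iff_div] at hz
  obtain ⟨P, hP, Q, hQ, hPQ⟩ := hz
  obtain ⟨c, r, hc, hcinv⟩ := hdata P (hadj hP)
  obtain ⟨d, t, hd, hdinv⟩ := hdata Q (hadj hQ)
  by_cases hQ0 : Q = 0
  · -- then `a = 0`
    have ha : a = 0 := by
      rw [hQ0, div_zero, div_eq_zero_iff] at hPQ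
      rcases hPQ with h0 | h0
      · exact hinj (by rw [h0, map_zero])
      · exact absurd h0 hbK
    refine ⟨0, 1, 0, 0, one_ne_zero, fun φ => by simp,
      fun φ => by rw [← actAlg_apply, map_one, pow_zero, pow_zero], by simp [ha]⟩
  · have hd0 : d ≠ 0 := by
      rintro rfl
      rw [map_zero] at hd
      rcases mul_eq_zero.1 hd with h0 | h0
      · exact hQ0 h0
      · exact hhK (pow_eq_zero_iff (by
          rintro rfl
          rw [pow_zero] at h0
          exact one_ne_zero h0) |>.1 h0)
    refine ⟨c, d, r, t, hd0, hcinv, hdinv, ?_⟩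
    apply hinj
    rw [div_eq_div_iff hbK hQ0] at hPQ
    simp only [map_mul, map_pow]
    rw [← hc, ← hd]
    linear_combination (algebraMap B (FractionRing B) h ^ t * algebraMap B (FractionRing B) h ^ r) * hPQ

end Main

end Groth.Agent.Lib.Helper84.Rosenlicht
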